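/- Kernel checks of the two actions on the points of the octagon. -/
import Cfsg.Agent.H53.TitsSylow
import Cfsg.Agent.H91.Ru.Quot
import Cfsg.Agent.H56.RuTits.Data

set_option autoImplicit false
set_option maxRecDepth 100000

namespace H56.RuTits

open H91.Ru (lk permT genW1)
open H93.Coset (force force_eq allRange allRange_spec walk walk_eq pathEnd)

/-- A vector of the orbit. -/
def tv (i : ℕ) : ℕ := lk 52 tvs i

/-- The representative of a line. -/
def rr (i : ℕ) : ℕ := lk 16 lns i

/-- The image record of a line. -/
def imgRec : ℕ → ℕ → ℕ
  | 0, i => lk 16 imgP i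
  | _, i => lk 16 imgQ i

/-- One step on numbers of lines. -/
def stepP (a i : ℕ) : ℕ := imgRec a i / 4

/-- A matching word. -/
def wordM (k : ℕ) : List ℕ := matchW.getD k []

/-- The generators of the stabiliser move the lines as recorded. -/
noncomputable def ruChk (a i : ℕ) : Bool :=
  force (rr i) fun r => Nat.blt r 16240 && force (imgRec a i) fun e => Nat.blt (e / 4) 1755 &&
    force (rr (e / 4)) fun s =>
      walk permT (genW1.getD a []) r fun x => walk permT (List.replicate (e % 4) 2) s fun y => Nat.beq x y

/-- The four generators move the vectors as their words move the lines. -/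
noncomputable def twChk (k i : ℕ) : Bool :=
  walk stepP (wordM k) i fun j => Nat.blt j 1755 &&
    force (tv i) fun v => Nat.beq (H53.Tits.appD (H53.TitsData.diffs.getD k []) v) (tv j)

/-- The first generator moves a vector to that of another line. -/
noncomputable def moveChk (j : ℕ) : Bool :=
  !(Nat.beq (H53.Tits.appD (H53.TitsData.diffs.getD 0 []) (tv 1) % 2 ^ 52) (tv j)) ||
    allRange 0 4 fun c => !(Nat.beq (rr 1) (pathEnd permT (List.replicate c 2) (rr j)))

theorem words_ok : ∀ k < 4, ∀ a ∈ wordM k, a < 2 := by decide +kernel

theorem genW1_two : genW1.length = 2 := by decide +kernel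

theorem ru_zero : allRange 0 1755 (ruChk 0) = true := by decide +kernel

theorem ru_one : allRange 0 1755 (ruChk 1) = true := by decide +kernel

theorem tw_zero : allRange 0 1755 (twChk 0) = true := by decide +kernel

theorem tw_one : allRange 0 1755 (twChk 1) = true := by decide +kernel

theorem tw_two : allRange 0 1755 (twChk 2) = true := by decide +kernel

theorem tw_three : allRange 0 1755 (twChk 3) = true := by decide +kernel

theorem move_ok : allRange 0 1755 moveChk = true := by decide +kernel

set_option maxRecDepth 4000 in
theorem gel_zero_sq : H53.BitMat.bword Cfsg.Lie.chevF4 (H53.Tits.cat [0, 0]) =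
    H53.BitMat.bword Cfsg.Lie.chevF4 [] := by decide +kernel

end H56.RuTits
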