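/- The twisted group of type F4 over two elements is the stabiliser of a base vector in the cover of the Rudvalis group. -/
import Cfsg.Agent.H56.RuTits.Check

set_option autoImplicit false
set_option maxRecDepth 100000

noncomputable section

namespace H56.RuTits

open Cfsg.Lie Cfsg.Spor
open H91.Ru (lk permT genW1 wordF vec fix sI genF)
open H93.Coset (force_eq allRange allRange_spec walk_eq pathEnd)
open H53.Tits (G2' K2 gel gmat rowOf appD)

theorem lk_lt (w : ℕ) (L : List (List ℕ)) (i : ℕ) : lk w L i < 2 ^ w := Nat.mod_lt _ (by positivity)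

/-- A generator of the stabiliser. -/
def bGen (a : ℕ) : ↥fourRu := wordF (genW1.getD a [])

theorem bGen_mem {a : ℕ} (ha : a < 2) : bGen a ∈ fix 1 := by
  refine H91.Ru.wordF_fix (by norm_num) ((H91.Ru.genList_spec (show 1 < 6 by norm_num)).2 _ ?_)
  have h : a < genW1.length := by rw [genW1_two]; exact ha
  rw [H91.Ru.genList_one, List.getD_eq_getElem _ _ h]
  exact List.getElem_mem h

/-- The element of a word, first letter acting first. -/
def bWord : List ℕ → ↥fourRu
  | [] => 1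
  | a :: w => bWord w * bGen a

theorem bWord_mem : ∀ w : List ℕ, (∀ a ∈ w, a < 2) → bWord w ∈ fix 1
  | [], _ => one_mem _
  | a :: w, h => mul_mem (bWord_mem w fun x hx => h x (List.mem_cons_of_mem _ hx)) (bGen_mem (h a (List.mem_cons_self ..)))

/-- The line of a number. -/
def LineMap (φ : ↥fourRu) (i j : ℕ) : Prop := ∃ c : ℕ, φ.1 (vec (rr i)) = (sI ^ c).1 (vec (rr j))

theorem lineMap_one (i : ℕ) : LineMap 1 i i := ⟨0, rfl⟩

theorem lineMap_mul {φ ψ : ↥fourRu} {i j l : ℕ} (h1 : LineMap ψ i j) (h2 : LineMap φ j l) :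
    LineMap (φ * ψ) i l := by
  obtain ⟨c, hc⟩ := h1
  obtain ⟨d, hd⟩ := h2
  refine ⟨c + d, ?_⟩
  show φ.1 (ψ.1 (vec (rr i))) = _
  rw [hc, show φ.1 ((sI ^ c).1 (vec (rr j))) = (sI ^ c).1 (φ.1 (vec (rr j))) from ?_, hd, pow_add]
  · rfl
  · have h := Subgroup.mem_center_iff.1 (Subgroup.pow_mem _ H91.Ru.sI_mem_center c) φ
    exact congrArg (fun f : ↥fourRu => f.1 (vec (rr j))) h

theorem ruChk_ok {a i : ℕ} (ha : a < 2) (hi : i < 1755) : ruChk a i = true := by
  match a, ha with
  | 0, _ => exact allRange_spec ru_zero i (Nat.zero_le _) (by omega)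
  | 1, _ => exact allRange_spec ru_one i (Nat.zero_le _) (by omega)

theorem rr_lt {i : ℕ} (hi : i < 1755) : rr i < 16240 := by
  have h := ruChk_ok (show 0 < 2 by norm_num) hi
  simp only [ruChk, force_eq, Bool.and_eq_true, Nat.blt_eq] at h
  exact h.1

theorem step_spec {a i : ℕ} (ha : a < 2) (hi : i < 1755) :
    stepP a i < 1755 ∧ LineMap (bGen a) i (stepP a i) := by
  have h := ruChk_ok ha hi
  simp only [ruChk, force_eq, walk_eq, Bool.and_eq_true, Nat.blt_eq, Nat.beq_eq] at h
  obtain ⟨hr, hj, he⟩ := h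
  refine ⟨hj, imgRec a i % 4, ?_⟩
  show (wordF (genW1.getD a [])).1 (vec (rr i)) = _
  rw [H91.Ru.wordF_vec _ hr, he, ← H91.Ru.sIpow_apply _ (rr_lt hj)]
  rfl

theorem word_spec : ∀ (w : List ℕ), (∀ a ∈ w, a < 2) → ∀ {i : ℕ}, i < 1755 →
    pathEnd stepP w i < 1755 ∧ LineMap (bWord w) i (pathEnd stepP w i)
  | [], _, i, hi => ⟨hi, lineMap_one i⟩
  | a :: w, h, i, hi => by
    obtain ⟨h1, h2⟩ := step_spec (h a (List.mem_cons_self ..)) hi
    obtain ⟨h3, h4⟩ := word_spec w (fun x hx => h x (List.mem_cons_of_mem _ hx)) h1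
    exact ⟨h3, lineMap_mul h2 h4⟩

/-- The partner of a generator. -/
def bel (k : Fin 4) : ↥(fix 1) := ⟨(bWord (wordM k.val))⁻¹, inv_mem (bWord_mem _ (words_ok _ k.isLt))⟩

/-- A pair moves the vectors as the inverse of the second part moves the lines. -/
def Match (p : ↥G2' × ↥(fix 1)) : Prop :=
  ∀ i < 1755, ∃ j < 1755,
    Matrix.vecMul (rowOf (tv i)) ((p.1 : GL chevF4.Idx K2) : Matrix chevF4.Idx chevF4.Idx K2) = rowOf (tv j) ∧
      LineMap ((p.2 : ↥fourRu)⁻¹) i j

theorem match_one : Match 1 := fun i hi =>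
  ⟨i, hi, by rw [Prod.fst_one, OneMemClass.coe_one, Units.val_one, Matrix.vecMul_one],
    by rw [Prod.snd_one, OneMemClass.coe_one, inv_one]; exact lineMap_one i⟩

theorem match_mul {p q : ↥G2' × ↥(fix 1)} (hp : Match p) (hq : Match q) : Match (p * q) := by
  intro i hi
  obtain ⟨j, hj, e1, l1⟩ := hp i hi
  obtain ⟨l, hl, e2, l2⟩ := hq j hj
  refine ⟨l, hl, ?_, ?_⟩
  · rw [Prod.fst_mul, Subgroup.coe_mul, Units.val_mul, ← Matrix.vecMul_vecMul, e1, e2]
  · rw [Prod.snd_mul, Subgroup.coe_mul, mul_inv_rev]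
    exact lineMap_mul l1 l2

theorem twChk_ok {k i : ℕ} (hk : k < 4) (hi : i < 1755) : twChk k i = true := by
  match k, hk with
  | 0, _ => exact allRange_spec tw_zero i (Nat.zero_le _) (by omega)
  | 1, _ => exact allRange_spec tw_one i (Nat.zero_le _) (by omega)
  | 2, _ => exact allRange_spec tw_two i (Nat.zero_le _) (by omega)
  | 3, _ => exact allRange_spec tw_three i (Nat.zero_le _) (by omega)

theorem match_gen (k : Fin 4) : Match (gel k, bel k) := by
  intro i hi
  have h := twChk_ok k.isLt hi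
  simp only [twChk, walk_eq, force_eq, Bool.and_eq_true, Nat.blt_eq, Nat.beq_eq] at h
  refine ⟨_, h.1, ?_, ?_⟩
  · show Matrix.vecMul _ (gmat k.val : Matrix chevF4.Idx chevF4.Idx K2) = _
    rw [H53.Tits.vecMul_gen k.isLt, h.2]
  · show LineMap ((bWord (wordM k.val))⁻¹)⁻¹ i _
    rw [inv_inv]
    exact (word_spec _ (words_ok _ k.isLt) hi).2

/-- The graph of the isomorphism. -/
def graphK : Subgroup (↥G2' × ↥(fix 1)) := Subgroup.closure (Set.range fun k => (gel k, bel k))

theorem finite_fix : Finite ↥(fix 1) :=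
  Nat.finite_of_card_ne_zero (by rw [H91.Ru.card_fix_one]; norm_num)

theorem graph_match {p : ↥G2' × ↥(fix 1)} (hp : p ∈ graphK) : Match p := by
  have := finite_fix
  have h : p ∈ Submonoid.closure (Set.range fun k : Fin 4 => (gel k, bel k)) := by
    rw [← Subgroup.closure_toSubmonoid_of_finite]; exact hp
  induction h using Submonoid.closure_induction with
  | mem x hx => obtain ⟨k, rfl⟩ := hx; exact match_gen k
  | one => exact match_one
  | mul a b _ _ ha hb =>
    have ha' : a ∈ graphK := by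
      rw [graphK, ← Subgroup.mem_toSubmonoid, Subgroup.closure_toSubmonoid_of_finite]; assumption
    have hb' : b ∈ graphK := by
      rw [graphK, ← Subgroup.mem_toSubmonoid, Subgroup.closure_toSubmonoid_of_finite]; assumption
    exact match_mul (ha ha') (hb hb')

theorem graph_fst (g : ↥G2') : ∃ h, (g, h) ∈ graphK := by
  have hg : g ∈ graphK.map (MonoidHom.fst ↥G2' ↥(fix 1)) := by
    have hle : Subgroup.closure (Set.range gel) ≤ graphK.map (MonoidHom.fst ↥G2' ↥(fix 1)) :=
      (Subgroup.closure_le _).2 fun x ⟨k, hk⟩ => ⟨_, Subgroup.subset_closure ⟨k, rfl⟩, hk⟩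
    exact hle (by rw [H53.Tits.gen_top]; trivial)
  obtain ⟨⟨x, h⟩, hm, rfl⟩ := hg
  exact ⟨h, hm⟩

theorem rowOf_eq {a b : ℕ} (hb : b < 2 ^ 52) (h : rowOf a = rowOf b) : a % 2 ^ 52 = b := by
  refine Nat.eq_of_testBit_eq fun c => ?_
  rw [Nat.testBit_mod_two_pow]
  by_cases hc : c < 52
  · have := congrFun h (finSumFinEquiv.symm ⟨c, hc⟩)
    simp only [rowOf, Equiv.apply_symm_apply] at this
    revert this
    simp only [hc, decide_true, Bool.true_and]
    cases a.testBit c <;> cases b.testBit c <;> simp [H53.BitMat.bit]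
  · rw [Nat.testBit_lt_two_pow (lt_of_lt_of_le hb (Nat.pow_le_pow_right (by norm_num) (by omega)))]
    simp [hc]

theorem match_gel_zero : ¬ Match (gel 0, (1 : ↥(fix 1))) := by
  intro hm
  obtain ⟨j, hj, e, c, hc⟩ := hm 1 (by norm_num)
  have hv : Nat.beq (appD (H53.TitsData.diffs.getD 0 []) (tv 1) % 2 ^ 52) (tv j) = true := by
    rw [Nat.beq_eq]
    refine rowOf_eq (lk_lt 52 _ _) ?_
    have e' : Matrix.vecMul (rowOf (tv 1)) (gmat 0 : Matrix chevF4.Idx chevF4.Idx K2) = rowOf (tv j) := e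
    rwa [H53.Tits.vecMul_gen (by norm_num)] at e'
  have h := allRange_spec move_ok j (Nat.zero_le _) (by omega)
  simp only [moveChk, hv, Bool.not_true, Bool.false_or] at h
  have h4 := allRange_spec h (c % 4) (Nat.zero_le _) (by omega)
  simp only [Bool.not_eq_true'] at h4
  have hne : rr 1 ≠ pathEnd permT (List.replicate (c % 4) 2) (rr j) := fun he => by
    rw [Nat.beq_eq.mpr he] at h4; exact Bool.noConfusion h4
  refine hne (H91.Ru.vec_inj (rr_lt (by norm_num)) (H91.Ru.pathEnd_lt _ (rr_lt hj)) ?_)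
  rw [← H91.Ru.sIpow_apply _ (rr_lt hj)]
  have e4 : sI ^ c = sI ^ (c % 4) := by
    conv_lhs => rw [← Nat.mod_add_div c 4, pow_add, pow_mul, H91.Ru.sI_four, one_pow, mul_one]
  rw [← e4, ← hc]
  simp

theorem gel_zero_mem : gel 0 ∈ commutator ↥G2' := by
  have hsq : gel 0 * gel 0 = 1 := by
    have h : H53.Tits.gprod [0, 0] = H53.Tits.gprod [] :=
      Subtype.ext (by rw [H53.Tits.coe_gprod, H53.Tits.coe_gprod, H53.Tits.wordRt_eq_of_bword (w' := H53.Tits.cat ([] : List ℕ))]; exacts [rfl, gel_zero_sq])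
    simpa [H53.Tits.gprod] using h
  have hne : gel 0 ≠ 1 := fun h => match_gel_zero (by rw [h]; exact match_one)
  exact H53.Tits.mem_derived_of_involution _ (orderOf_eq_prime (by rw [pow_two, hsq]) hne)

theorem graph_ker {g : ↥G2'} (hg : (g, (1 : ↥(fix 1))) ∈ graphK) : g = 1 := by
  let N : Subgroup ↥G2' := graphK.comap (MonoidHom.inl ↥G2' ↥(fix 1))
  have hN : N.Normal := ⟨fun n hn x => by
    obtain ⟨h, hx⟩ := graph_fst x
    show (x * n * x⁻¹, (1 : ↥(fix 1))) ∈ graphK
    have := mul_mem (mul_mem hx (show (n, (1 : ↥(fix 1))) ∈ graphK from hn)) (inv_mem hx)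
    simpa using this⟩
  haveI : IsSimpleGroup ↥(commutator ↥G2') := H53.Tits.tits_facts.1
  have hbot : ∀ x ∈ N, x ∈ commutator ↥G2' → x = 1 := by
    intro x hx hxc
    rcases (hN.subgroupOf (commutator ↥G2')).eq_bot_or_eq_top with h | h
    · have hm : (⟨x, hxc⟩ : ↥(commutator ↥G2')) ∈ N.subgroupOf (commutator ↥G2') := hx
      rw [h, Subgroup.mem_bot] at hm
      exact congrArg Subtype.val hm
    · exfalso
      have hm : (⟨gel 0, gel_zero_mem⟩ : ↥(commutator ↥G2')) ∈ N.subgroupOf (commutator ↥G2') := h ▸ Subgroup.mem_top _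
      exact match_gel_zero (graph_match hm)
  have hsq : g * g = 1 :=
    hbot _ (mul_mem (show g ∈ N from hg) hg) (Subgroup.mul_self_mem_of_index_two H53.Tits.index_eq_two g)
  by_contra hne
  exact hne (hbot g hg (H53.Tits.mem_derived_of_involution g (orderOf_eq_prime (by rw [pow_two, hsq]) hne)))

/-- The twisted group of type F4 over two elements is the stabiliser of the first base vector. -/
theorem iso : Nonempty (twistedF4 (ZMod 2) 1 ≃* H91.Ru.fix 1) := by
  haveI := finite_fix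
  let π₁ : ↥graphK →* ↥G2' := (MonoidHom.fst _ _).comp graphK.subtype
  let π₂ : ↥graphK →* ↥(fix 1) := (MonoidHom.snd _ _).comp graphK.subtype
  have h1 : Function.Surjective π₁ := fun g => by
    obtain ⟨h, hh⟩ := graph_fst g
    exact ⟨⟨_, hh⟩, rfl⟩
  have h2 : Function.Injective π₂ := by
    rw [injective_iff_map_eq_one]
    rintro ⟨⟨g, h⟩, hm⟩ (rfl : h = 1)
    have := graph_ker hm
    exact Subtype.ext (Prod.ext this rfl)
  have c1 := Nat.card_le_card_of_surjective _ h1
  have c2 := Nat.card_le_card_of_injective _ h2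
  rw [H91.Ru.card_fix_one] at c2
  have e : Nat.card ↥G2' = 35942400 := by rw [H53.Tits.card_group]; norm_num
  rw [e] at c1
  have b2 : Function.Bijective π₂ :=
    (Nat.bijective_iff_injective_and_card π₂).2 ⟨h2, by rw [H91.Ru.card_fix_one]; omega⟩
  have b1 : Function.Bijective π₁ :=
    (Nat.bijective_iff_surjective_and_card π₁).2 ⟨h1, by rw [e]; omega⟩
  exact ⟨(MulEquiv.ofBijective π₁ b1).symm.trans (MulEquiv.ofBijective π₂ b2)⟩

end H56.RuTits
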